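import Mathlib
import Cfsg.Prelude.Def_Solvable

/-!
# Project PG (S2490): a group of order 7920 with disconnected prime graph is simple

Definitions shared by all pieces.
-/

set_option autoImplicit false

namespace Cfsg.Agent.Lib.Helper22.PG

/-- `11` is prime (handy for `Sylow 11 _`) -/
instance fact_prime_eleven : Fact (Nat.Prime 11) := ⟨by norm_num⟩

/-- adjacency in the prime graph: there is an element of order `p * q` -/
def Adj (G : Type*) [Group G] (p q : ℕ) : Prop := ∃ g : G, orderOf g = p * q

/-- the certificate of connectedness (on the primes `2, 3, 5, 11`) used in the final step -/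
def Conn (G : Type*) [Group G] : Prop :=
  Adj G 11 2 ∧ Adj G 11 3 ∧ (Adj G 11 5 ∨ Adj G 5 3)

/-- number of Sylow `11`-subgroups normalised by `g` (fixed points of `g` on `Sylow 11 H`) -/
noncomputable def fx {H : Type*} [Group H] (g : H) : ℕ :=
  Nat.card (MulAction.fixedBy (Sylow 11 H) g)

/-- `H` has no subgroup of index `2` -/
def NoIdx2 (H : Type*) [Group H] : Prop := ∀ M : Subgroup H, M.index ≠ 2

end Cfsg.Agent.Lib.Helper22.PG
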