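import Mathlib
import Cfsg.Agent.Lib.Helper22.PG.Defs
import Cfsg.Agent.Lib.Helper1.Cores
import Cfsg.Agent.Lib.helper23.ZpMin2
import Cfsg.Agent.Lib.helper23.SylowQuot

/-!
# Project PG, piece CORES: three small lemmas on `O_{11'}` and Sylow numbers of quotients
-/

set_option autoImplicit false

namespace Cfsg.Agent.Lib.Helper22.PG

open Subgroup

/-- PG-QS : the number of Sylow subgroups of a quotient divides that of the group -/
theorem card_sylow_quotient_dvd {H : Type*} [Group H] [Finite H] (K : Subgroup H) [K.Normal] :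
    Nat.card (Sylow 11 (H ⧸ K)) ∣ Nat.card (Sylow 11 H) := by
  obtain ⟨P⟩ : Nonempty (Sylow 11 H) := inferInstance
  exact ⟨_, Cfsg.Agent.Lib.helper23.card_sylow_eq_mul K P⟩

/-- PG-SUBN : the `11'`-core of a normal subgroup lies in the `11'`-core -/
theorem core_ne_bot_of_normal {H : Type*} [Group H] [Finite H] (N : Subgroup H) [hN : N.Normal]
    (h : Cfsg.pPrimeCore 11 N ≠ ⊥) : Cfsg.pPrimeCore 11 H ≠ ⊥ := by
  intro hO
  exact h (Cfsg.Agent.Lib.helper23.zq_core_sub_eq_bot (p := 11) hO N hN)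

/-- PG-CNB : a nontrivial normal subgroup of order prime to `11` makes the core nontrivial -/
theorem core_ne_bot_of_mem {H : Type*} [Group H] [Finite H] (M : Subgroup H) [hM' : M.Normal]
    (h11 : ¬ 11 ∣ Nat.card M) (hM : M ≠ ⊥) : Cfsg.pPrimeCore 11 H ≠ ⊥ := by
  intro hO
  have hc : (Nat.card M).Coprime 11 :=
    ((Nat.Prime.coprime_iff_not_dvd (by norm_num)).2 h11).symm
  have := Cfsg.Agent.Lib.Helper1.le_pPrimeCore hM' hc
  rw [hO, le_bot_iff] at this
  exact hM this

end Cfsg.Agent.Lib.Helper22.PG
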