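import Mathlib
import Cfsg.Agent.Lib.Helper22.PG.Defs
import Cfsg.Agent.Lib.Helper29.PGF1
import Cfsg.Agent.Lib.helper2.PGCOREa
import Cfsg.Agent.Lib.helper2.PGCOREb
import Cfsg.Agent.Lib.helper2.PGTXn1
import Cfsg.Agent.Lib.Helper22.PG.Cores
import Cfsg.Agent.Lib.Helper1.PGL1
import Cfsg.Agent.Lib.Helper1.PGNS
import Cfsg.Agent.Lib.Helper10.PGFXs
import Cfsg.Agent.Lib.Helper29.PGBURN
import Cfsg.Agent.Lib.helper8.SylowBasic
import Cfsg.Agent.Lib.Helper1.Cores
import Cfsg.Agent.Lib.Helper1.Fitting
import Cfsg.Agent.Lib.Helper1.PLength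

/-!
# Project PG: the core contradiction, Theorem X and the case `n_11 = 45`
-/

set_option autoImplicit false

namespace Cfsg.Agent.Lib.Helper22.PG

open Subgroup

universe u

/-- arithmetic: `495 * d` is not divisible by `121` for `d ∣ 16` -/
theorem h22_not_121 {d : ℕ} (hd : d ∣ 16) : ¬ 121 ∣ 495 * d := by
  have hd16 : d ≤ 16 := Nat.le_of_dvd (by norm_num) hd
  interval_cases d <;> simp_all (config := {decide := true})

/-- the Sylow 11-subgroups have order `11` -/
theorem h22_card_sylow {H : Type*} [Group H] [Finite H] (d : ℕ) (hd : d ∣ 16)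
    (hord : Nat.card H = 495 * d) (P : Sylow 11 H) : Nat.card (P : Subgroup H) = 11 := by
  have h1 : ¬ 11 ∣ 45 * d := by
    have hd16 : d ≤ 16 := Nat.le_of_dvd (by norm_num) hd
    interval_cases d <;> simp_all (config := {decide := true})
  have h2 := Cfsg.Agent.Lib.helper8.h8_sylow_card 11 1 (45 * d) (by rw [hord]; ring) h1 P
  simpa using h2

/-- a subgroup of order `11` is generated by each of its elements of order `11` -/
theorem h22_le_zpowers {H : Type*} [Group H] [Finite H] (P : Subgroup H) (hP : Nat.card P = 11)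
    (y : H) (hyP : y ∈ P) (hy : orderOf y = 11) : P ≤ zpowers y := by
  have h1 : zpowers y ≤ P := (zpowers_le).2 hyP
  have h2 : Nat.card P ≤ Nat.card (zpowers y) := by rw [Nat.card_zpowers, hy, hP]
  exact (Subgroup.eq_of_le_of_card_ge h1 h2).ge

/-- PG-CORE : the contradiction -/
theorem core_false {H : Type*} [Group H] [Finite H] (d : ℕ) (hd : d ∣ 16)
    (hord : Nat.card H = 495 * d) (hn : Nat.card (Sylow 11 H) = 45)
    (hcore : Cfsg.pPrimeCore 11 H = ⊥) (hno : NoIdx2 H) (P : Sylow 11 H)
    (hNC : ¬ normalizer ((P : Subgroup H) : Set H) ≤ centralizer ((P : Subgroup H) : Set H)) :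
    False := by
  obtain ⟨s, hs2, hsN, hsC⟩ := exists_involution_outside d hd hord hn hcore hno P hNC
  obtain ⟨g, hg⟩ := exists_conj_mem_centralizer d hd hord hn hno P s hs2 hsN hsC
  have h121 : ¬ 121 ∣ Nat.card H := by rw [hord]; exact h22_not_121 hd
  have hPcard := h22_card_sylow d hd hord P
  -- a generator of `P`
  obtain ⟨y, hyP, hy11⟩ : ∃ y ∈ (P : Subgroup H), orderOf y = 11 := by
    obtain ⟨y, hy⟩ := exists_prime_orderOf_dvd_card' (G := (P : Subgroup H)) 11
      (by rw [hPcard])
    exact ⟨y.1, y.2, (Subgroup.orderOf_coe y).trans hy⟩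
  -- `t := g s g⁻¹` is an involution commuting with `y`
  have ht2 : orderOf (g * s * g⁻¹) = 2 := by
    rw [← hs2]
    exact orderOf_eq_orderOf_iff.2 (fun n => by
      rw [conj_pow]
      constructor
      · intro h
        have := congrArg (fun z => g⁻¹ * z * g) h
        simpa [mul_assoc] using this
      · intro h; rw [h]; simp)
  have htc : (g * s * g⁻¹) * y = y * (g * s * g⁻¹) := by
    rw [mem_centralizer_iff] at hg
    exact (hg y hyP).symm
  have h1 : fx (g * s * g⁻¹) = 1 :=
    fx_involution_eq_one h121 hno hn hcore _ y ht2 hy11 htc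
  have h2 : fx s = 1 := by rw [← fx_conj g s]; exact h1
  have hsP : s • P = P := Sylow.smul_eq_iff_mem_normalizer.mpr hsN
  have h3 := centralizer_le_normalizer_of_fx s P hsP h2
  -- `y' := g⁻¹ y g` commutes with `s`
  have hy'c : g⁻¹ * y * g ∈ centralizer ({s} : Set H) := by
    rw [mem_centralizer_iff]
    intro z hz
    rw [Set.mem_singleton_iff] at hz
    subst hz
    have := congrArg (fun w => g⁻¹ * w * g) htc
    simp only [mul_assoc, inv_mul_cancel_left] at this
    simpa [mul_assoc] using this
  have hy'N := h3 hy'c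
  have hy'11 : orderOf (g⁻¹ * y * g) = 11 := by
    rw [← hy11]
    exact orderOf_eq_orderOf_iff.2 (fun n => by
      have hc : (g⁻¹ * y * g) ^ n = g⁻¹ * y ^ n * g := by
        have := conj_pow (a := g⁻¹) (b := y) (i := n)
        simpa using this
      rw [hc]
      constructor
      · intro h
        have := congrArg (fun z => g * z * g⁻¹) h
        simpa [mul_assoc] using this
      · intro h; rw [h]; simp)
  have hy'P : g⁻¹ * y * g ∈ (P : Subgroup H) :=
    mem_of_smul_eq _ hy'11 P (Sylow.smul_eq_iff_mem_normalizer.mpr hy'N)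
  have hPle := h22_le_zpowers (P : Subgroup H) hPcard _ hy'P hy'11
  apply hsC
  rw [mem_centralizer_iff]
  intro h hh
  obtain ⟨k, rfl⟩ := mem_zpowers_iff.1 (hPle hh)
  rw [mem_centralizer_iff] at hy'c
  have hcomm : Commute (g⁻¹ * y * g) s := (hy'c s rfl).symm
  exact (hcomm.zpow_left k).eq

/-- PG-TX : Theorem X -/
theorem core_ne_bot : ∀ (d : ℕ), d ∣ 16 → ∀ (H : Type u) [Group H] [Finite H],
    Nat.card H = 495 * d → Nat.card (Sylow 11 H) ∣ 45 → Cfsg.pPrimeCore 11 H ≠ ⊥ := by
  intro d
  induction d using Nat.strong_induction_on with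
  | _ d ih =>
    intro hd H _ _ hord hn
    have hd16 : d ≤ 16 := Nat.le_of_dvd (by norm_num) hd
    have hdpos : 0 < d := Nat.pos_of_dvd_of_pos hd (by norm_num)
    have hmod := Cfsg.Agent.Lib.helper8.h8_nsylow_mod (G := H) 11
    have hn' : Nat.card (Sylow 11 H) = 1 ∨ Nat.card (Sylow 11 H) = 45 := by
      have hmem : Nat.card (Sylow 11 H) ∈ Nat.divisors 45 := Nat.mem_divisors.2 ⟨hn, by norm_num⟩
      have hdiv : Nat.divisors 45 = {1, 3, 5, 9, 15, 45} := by decide
      rw [hdiv] at hmem
      simp only [Finset.mem_insert, Finset.mem_singleton] at hmem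
      rcases hmem with h | h | h | h | h | h <;> rw [h] at hmod <;> omega
    rcases hn' with h1 | h45
    · exact core_ne_bot_of_n11_eq_one d hd hord h1
    · obtain ⟨P⟩ : Nonempty (Sylow 11 H) := inferInstance
      have hPcard := h22_card_sylow d hd hord P
      by_cases hNC : normalizer ((P : Subgroup H) : Set H) ≤
          centralizer ((P : Subgroup H) : Set H)
      · obtain ⟨M, hMn, hMc⟩ := exists_normal_complement P hNC
        rw [hPcard, hord] at hMc
        have hM45 : Nat.card M = 45 * d := by omega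
        have := hMn
        apply core_ne_bot_of_mem M
        · rw [hM45]
          interval_cases d <;> simp_all (config := {decide := true})
        · intro hbot
          rw [hbot, Subgroup.card_bot] at hM45
          omega
      · by_cases hidx : ∃ M : Subgroup H, M.index = 2
        · obtain ⟨M, hM⟩ := hidx
          have : M.Normal := Subgroup.normal_of_index_eq_two hM
          have hcM := M.card_mul_index
          rw [hM, hord] at hcM
          have h2d : 2 ∣ d := by
            have : 2 ∣ 495 * d := ⟨Nat.card M, by omega⟩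
            exact (Nat.Coprime.dvd_of_dvd_mul_left (by norm_num) this)
          obtain ⟨d', rfl⟩ := h2d
          have hd' : d' ∣ 16 := Dvd.dvd.trans ⟨2, by ring⟩ hd
          have hcM' : Nat.card M = 495 * d' := by omega
          have hnM : Nat.card (Sylow 11 M) = Nat.card (Sylow 11 H) :=
            card_sylow_of_normal M (by rw [hM]; norm_num)
          have := ih d' (by omega) hd' M hcM' (by rw [hnM]; exact hn)
          exact core_ne_bot_of_normal M this
        · intro hcore
          exact core_false d hd hord h45 hcore (fun M hM => hidx ⟨M, hM⟩) P hNC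

/-- an element commuting with an element of order `11` normalises a Sylow 11-subgroup, so its
order divides `|G| / n_11` (when `11² ∤ |G|`) -/
theorem h22_orderOf_dvd {G : Type*} [Group G] [Finite G] (h121 : ¬ 121 ∣ Nat.card G)
    (x k : G) (hx : orderOf x = 11) (hc : x * k = k * x) :
    orderOf k * Nat.card (Sylow 11 G) ∣ Nat.card G := by
  have hpg : IsPGroup 11 (zpowers x) := by
    apply IsPGroup.of_card (n := 1)
    rw [Nat.card_zpowers, hx, pow_one]
  obtain ⟨P, hP⟩ := hpg.exists_le_sylow
  have hxP : x ∈ (P : Subgroup G) := hP (mem_zpowers x)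
  -- `|P| = 11`
  have hPcard : Nat.card (P : Subgroup G) = 11 := by
    obtain ⟨n, hn⟩ := IsPGroup.iff_card.mp P.isPGroup'
    have h11 : 11 ∣ Nat.card (P : Subgroup G) := by
      have := Subgroup.orderOf_dvd_natCard _ hxP
      rwa [hx] at this
    have hdvd : Nat.card (P : Subgroup G) ∣ Nat.card G := Subgroup.card_subgroup_dvd_card _
    rw [hn] at h11 hdvd ⊢
    have hn1 : n ≠ 0 := by
      rintro rfl
      norm_num at h11
    have hn2 : n < 2 := by
      by_contra hcon
      have hcon : 2 ≤ n := by omega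
      exact h121 (Dvd.dvd.trans (pow_dvd_pow 11 hcon) hdvd)
    have : n = 1 := by omega
    rw [this, pow_one]
  have hPle := h22_le_zpowers (P : Subgroup G) hPcard x hxP hx
  have hkN : k ∈ normalizer ((P : Subgroup G) : Set G) := by
    apply centralizer_le_normalizer
    rw [mem_centralizer_iff]
    intro h hh
    obtain ⟨j, rfl⟩ := mem_zpowers_iff.1 (hPle hh)
    have hcomm : Commute x k := hc
    exact (hcomm.zpow_left j).eq
  have hcardN := Cfsg.Agent.Lib.helper8.h8_card_normalizer_sylow 11 P
  have hk := Subgroup.orderOf_dvd_natCard _ hkN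
  rw [← hcardN]
  exact Nat.mul_dvd_mul_right hk _

/-- no prime `p ∈ {3, 5}` divides the order of a normal `11'`-subgroup when `n_11 = 45` -/
theorem h22_not_dvd_core {G : Type*} [Group G] [Finite G] (hord : Nat.card G = 7920)
    (hn : Nat.card (Sylow 11 G) = 45) (K : Subgroup G) [K.Normal] (h11 : ¬ 11 ∣ Nat.card K)
    (p : ℕ) (hp : p = 3 ∨ p = 5) : ¬ p ∣ Nat.card K := by
  intro hpK
  have hKdvd : Nat.card K ∣ 7920 := hord ▸ Subgroup.card_subgroup_dvd_card K
  have hpp : p.Prime := by rcases hp with rfl | rfl <;> norm_num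
  have harith : ∀ a b : ℕ, p ^ a ∣ Nat.card K → b < a → ¬ 11 ∣ p ^ a - p ^ b := by
    intro a b hab hba
    have hpa : p ^ a ∣ 7920 := hab.trans hKdvd
    rcases hp with rfl | rfl
    · have ha : a < 3 := by
        by_contra hcon
        have hcon : 3 ≤ a := by omega
        have := (pow_dvd_pow 3 hcon).trans hpa
        norm_num at this
      interval_cases a <;> interval_cases b <;> norm_num
    · have ha : a < 2 := by
        by_contra hcon
        have hcon : 2 ≤ a := by omega
        have := (pow_dvd_pow 5 hcon).trans hpa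
        norm_num at this
      interval_cases a <;> interval_cases b <;> norm_num
  obtain ⟨x, k, hx, hk, -, hc⟩ := exists_commuting_of_normal K 11 p (by norm_num) hpp
    (by rw [hord]; norm_num) h11 hpK harith
  have h121 : ¬ 121 ∣ Nat.card G := by rw [hord]; norm_num
  have := h22_orderOf_dvd h121 x k hx hc
  rw [hk, hn, hord] at this
  rcases hp with rfl | rfl <;> norm_num at this

/-- PG-TY : `45` Sylow 11-subgroups are impossible -/
theorem n11_ne_45 {G : Type u} [Group G] [Finite G] (hord : Nat.card G = 7920)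
    (hn : Nat.card (Sylow 11 G) = 45) : False := by
  have hK := core_ne_bot 16 (dvd_refl 16) G (by rw [hord]) (by rw [hn])
  have hnorm := Cfsg.Agent.Lib.Helper1.pPrimeCore_normal (G := G) 11
  have hcop := Cfsg.Agent.Lib.Helper1.pPrimeCore_card_coprime (G := G) 11
  have hquot := Cfsg.Agent.Lib.Helper1.pPrimeCore_quotient_eq_bot (G := G) 11
  set K := Cfsg.pPrimeCore 11 G with hKdef
  have h11 : ¬ 11 ∣ Nat.card K := by
    intro h
    have := Nat.Coprime.eq_one_of_dvd hcop.symm h
    norm_num at this
  have h3 := h22_not_dvd_core hord hn K h11 3 (Or.inl rfl)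
  have h5 := h22_not_dvd_core hord hn K h11 5 (Or.inr rfl)
  have hKdvd : Nat.card K ∣ 7920 := hord ▸ Subgroup.card_subgroup_dvd_card K
  -- `|K|` divides `16`
  have h16 : Nat.card K ∣ 16 := by
    have hc : Nat.Coprime (Nat.card K) 495 := by
      have e : (495 : ℕ) = 3 ^ 2 * 5 * 11 := by norm_num
      rw [e]
      refine Nat.Coprime.mul_right (Nat.Coprime.mul_right (Nat.Coprime.pow_right 2 ?_) ?_) ?_
      · exact ((Nat.Prime.coprime_iff_not_dvd (by norm_num)).2 h3).symm
      · exact ((Nat.Prime.coprime_iff_not_dvd (by norm_num)).2 h5).symm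
      · exact ((Nat.Prime.coprime_iff_not_dvd (by norm_num)).2 h11).symm
    have e : (7920 : ℕ) = 495 * 16 := by norm_num
    rw [e] at hKdvd
    exact hc.dvd_of_dvd_mul_left hKdvd
  have hK1 : Nat.card K ≠ 1 := by
    intro h
    exact hK (Subgroup.card_eq_one.mp h)
  obtain ⟨d', hd'⟩ := h16
  have hKpos : 0 < Nat.card K := Nat.card_pos
  have hd'16 : d' ∣ 16 := ⟨Nat.card K, by rw [hd']; ring⟩
  have hcardQ : Nat.card (G ⧸ K) = 495 * d' := by
    have h1 := K.card_mul_index
    rw [hord, Subgroup.index] at h1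
    have : Nat.card K * Nat.card (G ⧸ K) = Nat.card K * (495 * d') := by
      rw [h1]
      calc 7920 = 495 * 16 := by norm_num
        _ = 495 * (Nat.card K * d') := by rw [← hd']
        _ = Nat.card K * (495 * d') := by ring
    exact Nat.eq_of_mul_eq_mul_left hKpos this
  have hnQ : Nat.card (Sylow 11 (G ⧸ K)) ∣ 45 := by
    rw [← hn]; exact card_sylow_quotient_dvd K
  exact core_ne_bot d' hd'16 (G ⧸ K) hcardQ hnQ hquot

end Cfsg.Agent.Lib.Helper22.PG
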